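import Mathlib.Algebra.Polynomial.AlgebraMap
import Mathlib.Algebra.Polynomial.Reverse
import Mathlib.LinearAlgebra.BilinearForm.Properties
import Mathlib.LinearAlgebra.Eigenspace.Basic
import Mathlib.Algebra.Polynomial.RingDivision
import Mathlib.RingTheory.Polynomial.Basic
import Mathlib.RingTheory.Coprime.Lemmas

universe u v

namespace Groth.Agent.Form99

open Polynomial

variable {k : Type u} [Field k] {V : Type v} [AddCommGroup V] [Module k V]

theorem pow_form (B : LinearMap.BilinForm k V) (q : k) (M : Module.End k V)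
    (hM : ∀ x y : V, B (M x) (M y) = q * B x y) (i : ℕ) (a b : V) :
    B ((M ^ i) a) ((M ^ i) b) = q ^ i * B a b := by
  induction i generalizing a b with
  | zero => simp
  | succ i ih =>
    rw [pow_succ', Module.End.mul_apply, Module.End.mul_apply, hM, ih, pow_succ', mul_assoc]

theorem adjoint_reflect (B : LinearMap.BilinForm k V) (M : Module.End k V)
    (hM : ∀ x y : V, B (M x) (M y) = B x y) (P : k[X]) (N : ℕ) (hN : P.natDegree ≤ N) (x y : V) :
    B (aeval M P x) ((M ^ N) y) = B x (aeval M (P.reflect N) y) := by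
  have hpow : ∀ (i : ℕ) (a b : V), B ((M ^ i) a) ((M ^ i) b) = B a b := by
    intro i a b
    rw [pow_form B 1 M (fun x y => by rw [hM, one_mul]), one_pow, one_mul]
  refine Polynomial.induction_with_natDegree_le
    (fun P => B (aeval M P x) ((M ^ N) y) = B x (aeval M (P.reflect N) y)) N ?_ ?_ ?_ P hN
  · simp
  · intro n r _ hn
    rw [reflect_C_mul_X_pow, revAt_le hn]
    obtain ⟨m, rfl⟩ := Nat.exists_eq_add_of_le hn
    simp only [map_mul, aeval_C, map_pow, aeval_X, Module.algebraMap_end_apply, Module.End.mul_apply,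
      map_smul, LinearMap.smul_apply, Nat.add_sub_cancel_left]
    rw [pow_add, Module.End.mul_apply, hpow]
  · intro f g _ _ hf hg
    simp only [reflect_add, map_add, LinearMap.add_apply, hf, hg]

theorem adjoint_sub_pow (B : LinearMap.BilinForm k V) (q a : k) (M : Module.End k V)
    (hM : ∀ x y : V, B (M x) (M y) = q * B x y) (n : ℕ) (x y : V) :
    B (((M - algebraMap k _ a) ^ n) x) ((M ^ n) y) = B x (((algebraMap k _ q - a • M) ^ n) y) := by
  induction n generalizing x y with
  | zero => simp
  | succ n ih =>
    have hc : Commute (algebraMap k (Module.End k V) q - a • M) M :=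
      (Algebra.commute_algebraMap_left q M).sub_left ((Commute.refl M).smul_left a)
    rw [pow_succ (M - algebraMap k _ a), pow_succ M, Module.End.mul_apply, Module.End.mul_apply, ih,
      show ((algebraMap k _ q - a • M) ^ n) (M y) = M (((algebraMap k _ q - a • M) ^ n) y) from
        LinearMap.congr_fun (hc.pow_left n).eq y,
      pow_succ' (algebraMap k _ q - a • M), Module.End.mul_apply]
    simp [hM]

theorem orth_range_sub_pow (B : LinearMap.BilinForm k V) (q a : k) (M : Module.End k V)
    (hM : ∀ x y : V, B (M x) (M y) = q * B x y) (n : ℕ) (x y : V)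
    (h : ((M - algebraMap k _ a) ^ n) x = 0) :
    B x (((algebraMap k _ q - a • M) ^ n) y) = 0 := by
  rw [← adjoint_sub_pow B q a M hM, h, map_zero, LinearMap.zero_apply]

theorem maxGenEigenspace_le_range (M : Module.End k V) (a b : k) (hab : a ≠ b) (n : ℕ) :
    Module.End.maxGenEigenspace M a ≤ LinearMap.range ((M - algebraMap k _ b) ^ n) := by
  intro y hy
  obtain ⟨m, hm⟩ := Module.End.mem_maxGenEigenspace M a y |>.mp hy
  have hco : IsCoprime ((X - C b) ^ n) ((X - C a) ^ m) :=
    ((Polynomial.isCoprime_X_sub_C_of_isUnit_sub (sub_ne_zero.mpr hab.symm).isUnit)).pow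
  obtain ⟨u, w, huw⟩ := hco
  refine ⟨aeval M u y, ?_⟩
  have h0 : aeval M ((X - C a) ^ m) y = 0 := by
    rw [map_pow, map_sub, aeval_X, aeval_C, Algebra.algebraMap_eq_smul_one]
    exact hm
  have h1 : aeval M ((X - C b) ^ n * u) y = y := by
    conv_rhs => rw [← Module.End.one_apply (R := k) y, ← map_one (aeval (R := k) M), ← huw]
    rw [map_add, LinearMap.add_apply, map_mul _ w, Module.End.mul_apply, h0, map_zero, add_zero,
      mul_comm]
  rw [map_mul, Module.End.mul_apply, map_pow, map_sub, aeval_X, aeval_C] at h1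
  exact h1

end Groth.Agent.Form99
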